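import Groth.Agent.Lib.SecExt20.Kill
import Groth.Agent.Lib.StrictRes20.Basic
import Groth.Agent.Lib.FunFlat6.LimitFunctors
import Groth.Agent.Lib.LocFree8.Basic
import Groth.Agent.Lib.OX.Support
import Groth.Agent.Lib.RLpsi8.FTSub
import Groth.Agent.Lib.QCoh.Abelian

/-! # Extending sections from the nonvanishing locus of a map `E ⟶ O` -/

set_option autoImplicit false
set_option backward.isDefEq.respectTransparency false
set_option linter.style.haveILetI false
set_option maxHeartbeats 1000000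
universe u

open CategoryTheory CategoryTheory.Limits AlgebraicGeometry

noncomputable section

namespace GrothLib.SecExt20

variable {X : Scheme.{u}}

theorem isFT_of_epi {A B : X.Modules} [A.IsQuasicoherent] [B.IsQuasicoherent] (p : A ⟶ B) [Epi p]
    (hA : CohB1.IsFT A) : CohB1.IsFT B := by
  let T := ShortComplex.mk (kernel.ι p) p (kernel.condition p)
  have hT : T.ShortExact :=
    { exact := ShortComplex.exact_of_f_is_kernel _ (kernelIsKernel p)
      mono_f := inferInstanceAs (Mono (kernel.ι p))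
      epi_g := inferInstanceAs (Epi p) }
  haveI : T.X₁.IsQuasicoherent := QCoh.isQuasicoherent_kernel p
  refine (QCoh.isFiniteType_iff_moduleFinite _).2 fun U hU => ?_
  haveI := QCoh.moduleFinite_of_isFiniteType A hA hU
  exact Module.Finite.of_surjective (QCoh.appLinear p U) (QCoh.app_surjective_of_isAffineOpen hT hU)

theorem stalk_eq_zero_of_isZero_restrict {U : X.Opens} {K : X.Modules}
    (h : IsZero ((Scheme.Modules.restrictFunctor U.ι).obj K)) (x : X) (hx : x ∈ U)
    (w : K.presheaf.stalk x) : w = 0 := by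
  have h1 := OX.support_subset_of_isZero_restrict U.ι h
  have : Subsingleton (K.presheaf.stalk x) := by
    by_contra hne
    exact h1 hne ⟨⟨x, hx⟩, rfl⟩
  exact Subsingleton.elim _ _

theorem additive_F {E : X.Modules} : ∀ m : ℕ, (F E m).Additive
  | 0 => inferInstanceAs (𝟭 X.Modules).Additive
  | m + 1 =>
    haveI := additive_F (E := E) m
    inferInstanceAs (F E m ⋙ (DCoh.tensorBi (X := X)).obj E).Additive

/-- **Sections over the nonvanishing locus extend after multiplying by a power.** -/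
theorem exists_extension_F [CompactSpace X] [QuasiSeparatedSpace X] {E : X.Modules} (hE : FlatMod.IsFinLocFree E)
    (q : E ⟶ Coh.structureModule X) (U : X.Opens) [QuasiCompact U.ι]
    (hq : ∀ (O : X.Opens) (z : Γ(E, O)), X.basicOpen (U := O) (q.app O z : Γ(X, O)) ≤ U)
    (hU : ∀ x ∈ U, stI q x = ⊤) {M P₀ : X.Modules} [M.IsQuasicoherent] (hP₀ : FlatMod.IsFinLocFree P₀)
    (σ' : (Scheme.Modules.restrictFunctor U.ι).obj P₀ ⟶ (Scheme.Modules.restrictFunctor U.ι).obj M) :
    ∃ (m m' : ℕ) (φ : (F E m').obj ((F E m).obj P₀) ⟶ M), ∀ {C : X.Modules} (c : M ⟶ C), φ ≫ c = 0 →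
      σ' ≫ (Scheme.Modules.restrictFunctor U.ι).map c = 0 := by
  let Rs := Scheme.Modules.restrictFunctor U.ι
  let adj := Scheme.Modules.restrictAdjunction U.ι
  let N := (Scheme.Modules.pushforward U.ι).obj (Rs.obj M)
  let η : M ⟶ N := adj.unit.app M
  let σ : P₀ ⟶ N := adj.homEquiv P₀ (Rs.obj M) σ'
  haveI : (Rs.obj M).IsQuasicoherent := inferInstanceAs (M.restrict U.ι).IsQuasicoherent
  haveI : N.IsQuasicoherent := QCoh.isQuasicoherent_pushforward U.ι _
  haveI : IsIso (Rs.map η) := IsIso.of_isIso_fac_right (h := 𝟙 _) (adj.left_triangle_components M)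
  -- the image of `σ` outside the image of `M`
  let π : N ⟶ cokernel η := cokernel.π η
  haveI : (cokernel η).IsQuasicoherent := QCoh.isQuasicoherent_cokernel η
  have hRQ : IsZero (Rs.obj (cokernel η)) := by
    have h0 : Rs.map π = 0 := by
      rw [← cancel_epi (Rs.map η), ← Rs.map_comp, cokernel.condition, Functor.map_zero, comp_zero]
    rw [IsZero.iff_id_eq_zero, ← cancel_epi (Rs.map π), h0, zero_comp, comp_zero]
  let h : P₀ ⟶ cokernel η := σ ≫ π
  haveI := Euler.isQuasicoherent_of_isFinLocFree hP₀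
  haveI : (kernel h).IsQuasicoherent := QCoh.isQuasicoherent_kernel h
  let C₁ := cokernel (kernel.ι h)
  let p₁ : P₀ ⟶ C₁ := cokernel.π (kernel.ι h)
  haveI : C₁.IsQuasicoherent := QCoh.isQuasicoherent_cokernel (kernel.ι h)
  let i₁ : C₁ ⟶ cokernel η := Abelian.factorThruCoimage h
  have hpi : p₁ ≫ i₁ = h := Abelian.coimage.fac h
  haveI : Mono i₁ := inferInstanceAs (Mono (Abelian.factorThruCoimage h))
  have hC₁ : IsZero (Rs.obj C₁) := by
    haveI : Mono (Rs.map i₁) := inferInstance
    rw [IsZero.iff_id_eq_zero, ← cancel_mono (Rs.map i₁)]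
    exact hRQ.eq_of_tgt _ _
  obtain ⟨m, hm⟩ := exists_R_eq_zero q hE U hq (isFT_of_epi p₁ (Euler.isCoh_of_isFinLocFree hP₀).2)
    (stalk_eq_zero_of_isZero_restrict hC₁)
  let P₁ := (F E m).obj P₀
  have hP₁ : FlatMod.IsFinLocFree P₁ := isFinLocFree_F hE hP₀ m
  have hg : ((R q m).app P₀ ≫ σ) ≫ π = 0 := by
    rw [Category.assoc, show σ ≫ π = p₁ ≫ i₁ from hpi.symm, ← Category.assoc,
      show (R q m).app P₀ ≫ p₁ = (F E m).map p₁ ≫ (R q m).app C₁ from ((R q m).naturality p₁).symm,
      hm, comp_zero, zero_comp]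
  -- lift to a finite type submodule of the fibre product
  let M' := kernel π
  let η₁ : M ⟶ M' := Abelian.factorThruImage η
  haveI : Epi η₁ := inferInstanceAs (Epi (Abelian.factorThruImage η))
  have hη₁ : η₁ ≫ kernel.ι π = η := Abelian.image.fac η
  let g₁ : P₁ ⟶ M' := kernel.lift π ((R q m).app P₀ ≫ σ) hg
  haveI := Euler.isQuasicoherent_of_isFinLocFree hP₁
  haveI : M'.IsQuasicoherent := QCoh.isQuasicoherent_kernel π
  let d : M ⊞ P₁ ⟶ M' := biprod.desc η₁ (-g₁)
  haveI : (M ⊞ P₁).IsQuasicoherent := Cohom.isQuasicoherent_biprod _ _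
  haveI : (pullback η₁ g₁).IsQuasicoherent := by
    haveI := QCoh.isQuasicoherent_kernel d
    exact OX.isQCoh_of_iso ((kernelIsKernel d).conePointUniqueUpToIso
      (Abelian.PullbackToBiproductIsKernel.isLimitPullbackToBiproduct η₁ g₁)) ‹_›
  let p : pullback η₁ g₁ ⟶ P₁ := pullback.snd η₁ g₁
  haveI : Epi p := inferInstanceAs (Epi (pullback.snd η₁ g₁))
  obtain ⟨Q, hQ, hQp⟩ := StrictRes20.exists_ft_cover (Euler.isCoh_of_isFinLocFree hP₁).2 p
  haveI : Q.obj.IsQuasicoherent := hQ.isQuasicoherent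
  let v : Q.obj ⟶ P₁ := Q.ι ≫ p
  haveI : Epi v := hQp
  have hKft : CohB1.IsFT (kernel v) :=
    FunFlat6.isFT_kernel hQ.isFiniteType (LocFree8.isFP_of_isFinLocFree _ hP₁) v
  haveI : (kernel v).IsQuasicoherent := QCoh.isQuasicoherent_kernel v
  haveI : Mono Q.ι := RLpsi8.mono_ι Q
  let t : kernel v ⟶ M := kernel.ι v ≫ Q.ι ≫ pullback.fst η₁ g₁
  have htη : t ≫ η = 0 := by
    refine (congrArg (t ≫ ·) hη₁).symm.trans ?_
    simp only [t, Category.assoc, pullback.condition_assoc]
    rw [← Category.assoc Q.ι, show Q.ι ≫ pullback.snd η₁ g₁ = v from rfl, kernel.condition_assoc, zero_comp]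
  haveI : Mono t := ⟨fun a b hab => by
    apply (cancel_mono (kernel.ι v ≫ Q.ι)).1
    apply pullback.hom_ext
    · simpa [t] using hab
    · simp only [Category.assoc]
      rw [show Q.ι ≫ pullback.snd η₁ g₁ = v from rfl, kernel.condition, comp_zero, comp_zero]⟩
  have hK : IsZero (Rs.obj (kernel v)) := by
    haveI : Mono (Rs.map t) := inferInstance
    rw [IsZero.iff_id_eq_zero, ← cancel_mono (Rs.map t), Category.id_comp, zero_comp, ← cancel_mono (Rs.map η),
      ← Rs.map_comp, htη, Functor.map_zero, zero_comp]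
  obtain ⟨m', hm'⟩ := exists_R_eq_zero q hE U hq hKft (stalk_eq_zero_of_isZero_restrict hK)
  haveI := additive_F (E := E) m'
  haveI := preservesColimits_F (E := E) m'
  haveI : PreservesFiniteColimits (F E m') := PreservesColimitsOfSize.preservesFiniteColimits _
  have hzero : (F E m').map (kernel.ι v) ≫ (R q m').app Q.obj = 0 := by
    rw [show (F E m').map (kernel.ι v) ≫ (R q m').app Q.obj = (R q m').app (kernel v) ≫ kernel.ι v from
      (R q m').naturality (kernel.ι v), hm', zero_comp]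
  let S := ShortComplex.mk (kernel.ι v) v (kernel.condition v)
  have hS : S.Exact := ShortComplex.exact_of_f_is_kernel _ (kernelIsKernel v)
  haveI : Epi S.g := ‹Epi v›
  let D := CokernelCofork.IsColimit.desc' (CokernelCofork.mapIsColimit _ hS.gIsCokernel (F E m'))
    ((R q m').app Q.obj) hzero
  let u : (F E m').obj P₁ ⟶ Q.obj := D.1
  have hu : (F E m').map v ≫ u = (R q m').app Q.obj := D.2
  have huv : u ≫ v = (R q m').app P₁ := by
    haveI : Epi ((F E m').map v) := inferInstance
    rw [← cancel_epi ((F E m').map v), ← Category.assoc, hu]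
    exact ((R q m').naturality v).symm
  let φ : (F E m').obj P₁ ⟶ M := u ≫ Q.ι ≫ pullback.fst η₁ g₁
  let r : (F E m').obj P₁ ⟶ P₀ := (R q m').app P₁ ≫ (R q m).app P₀
  have hφ : φ ≫ η = r ≫ σ := by
    refine (congrArg (φ ≫ ·) hη₁).symm.trans ?_
    simp only [φ, r, Category.assoc, pullback.condition_assoc]
    rw [← Category.assoc Q.ι, show Q.ι ≫ pullback.snd η₁ g₁ = v from rfl, ← Category.assoc u, huv]
    exact congrArg (_ ≫ ·) (kernel.lift_ι _ _ _)
  have hRφ : Rs.map φ = Rs.map r ≫ σ' := by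
    apply (adj.homEquiv _ _).injective
    rw [Adjunction.homEquiv_naturality_left]
    refine Eq.trans ?_ hφ
    rw [Adjunction.homEquiv_unit]
    exact (adj.unit.naturality φ).symm
  refine ⟨m, m', φ, fun {C} c hc => ?_⟩
  haveI : Epi (Rs.map r) := by
    refine Abelian.epi_of_cokernel_π_eq_zero _ ?_
    have hz : IsZero (Rs.obj (cokernel r)) := OX.isZero_restrict_of_support U.ι fun y hy => hy ⟨fun a b => by
      have hsurj : Function.Surjective ((OX.stalk (U.ι y)).map r) := by
        show Function.Surjective ((OX.stalk (U.ι y)).map ((R q m').app P₁ ≫ (R q m).app P₀))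
        rw [Functor.map_comp]
        exact (surjective_R q _ (hU _ y.2) P₀ m).comp (surjective_R q _ (hU _ y.2) P₁ m')
      have hπ : Function.Surjective ((OX.stalk (U.ι y)).map (cokernel.π r)) :=
        (ModuleCat.epi_iff_surjective _).1 ((OX.epi_iff (cokernel.π r)).1 inferInstance _)
      have hall : ∀ a : (OX.stalk (U.ι y)).obj (cokernel r), a = 0 := fun a => by
        obtain ⟨b, rfl⟩ := hπ a
        obtain ⟨c, rfl⟩ := hsurj b
        rw [← ConcreteCategory.comp_apply, ← Functor.map_comp, cokernel.condition, Functor.map_zero]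
        rfl
      exact (hall a).trans (hall b).symm⟩
    have : Rs.map r ≫ cokernel.π (Rs.map r) = 0 := cokernel.condition _
    have e : cokernel.π (Rs.map r) = Rs.map (cokernel.π r) ≫ (PreservesCokernel.iso Rs r).hom := by
      simp [PreservesCokernel.π_iso_hom]
    rw [e, hz.eq_of_tgt (Rs.map (cokernel.π r)) 0, zero_comp]
  rw [← cancel_epi (Rs.map r), comp_zero, ← Category.assoc, ← hRφ, ← Rs.map_comp, hc, Functor.map_zero]

/-- **Sections over the nonvanishing locus extend after multiplying by a power.** -/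
theorem exists_extension [CompactSpace X] [QuasiSeparatedSpace X] {E : X.Modules} (hE : FlatMod.IsFinLocFree E)
    (q : E ⟶ Coh.structureModule X) (U : X.Opens) [QuasiCompact U.ι]
    (hq : ∀ (O : X.Opens) (z : Γ(E, O)), X.basicOpen (U := O) (q.app O z : Γ(X, O)) ≤ U)
    (hU : ∀ x ∈ U, stI q x = ⊤) {M P₀ : X.Modules} [M.IsQuasicoherent] (hP₀ : FlatMod.IsFinLocFree P₀)
    (σ' : (Scheme.Modules.restrictFunctor U.ι).obj P₀ ⟶ (Scheme.Modules.restrictFunctor U.ι).obj M) :
    ∃ (P : X.Modules) (φ : P ⟶ M), FlatMod.IsFinLocFree P ∧ ∀ {C : X.Modules} (c : M ⟶ C), φ ≫ c = 0 →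
      σ' ≫ (Scheme.Modules.restrictFunctor U.ι).map c = 0 := by
  obtain ⟨m, m', φ, h⟩ := exists_extension_F hE q U hq hU hP₀ σ'
  exact ⟨_, φ, isFinLocFree_F hE (isFinLocFree_F hE hP₀ m) m', h⟩

end GrothLib.SecExt20
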