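import Groth.Agent.Lib.SecExt20.Extend
import Groth.Agent.Lib.RLpsi8.IdealTwist
import Groth.Agent.Lib.RegSheaf.PullTwist
import Groth.Agent.Lib.OmegaAff.Basic
import Groth.Agent.Lib.DCoh.LocFree
import Groth.Agent.Lib.KSix19.ProjPush.AmpleFam

/-! # The resolution property from boundary ideals -/

set_option autoImplicit false
set_option backward.isDefEq.respectTransparency false
set_option linter.style.haveILetI false
set_option maxHeartbeats 1000000
universe u

open CategoryTheory CategoryTheory.Limits AlgebraicGeometry TopologicalSpace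

noncomputable section

namespace GrothLib.SecExt20

variable {X : Scheme.{u}}

/-- An affine open meets the complement of a finite type boundary in a compact set. -/
theorem isCompact_inter (I : X.IdealSheafData) (hI : CohB1.IsFT (ClSub.idealMod I)) {U : X.Opens}
    (hs : (I.support : Set X) = (U : Set X)ᶜ) {V : X.Opens} (hV : IsAffineOpen V) :
    IsCompact ((V : Set X) ∩ (U : Set X)) := by
  classical
  haveI := OmegaAff.isQuasicoherent_idealMod I
  haveI := QCoh.moduleFinite_of_isFiniteType (ClSub.idealMod I) hI hV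
  have hfg : (I.ideal ⟨V, hV⟩).FG := by
    let L : Γ(ClSub.idealMod I, V) →ₗ[Γ(X, V)] Γ(X, V) :=
      { toFun := IdealModSec.val I V
        map_add' := fun a b => map_add ((ClSub.idealModι I).app V).hom a b
        map_smul' := IdealModSec.val_smul I V }
    have : I.ideal ⟨V, hV⟩ = LinearMap.range L :=
      le_antisymm (fun a ha => IdealModSec.exists_val_eq I ⟨V, hV⟩ ha)
        (by rintro _ ⟨k, rfl⟩; exact IdealModSec.val_mem I ⟨V, hV⟩ k)
    rw [this, LinearMap.range_eq_map]
    exact Submodule.FG.map _ Module.Finite.fg_top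
  obtain ⟨G, hG⟩ := hfg
  have hz : X.zeroLocus (U := V) (I.ideal ⟨V, hV⟩ : Set Γ(X, V)) = X.zeroLocus (U := V) (G : Set Γ(X, V)) := by
    rw [← hG]; exact X.zeroLocus_span _
  have heq : (V : Set X) ∩ (U : Set X) = ⋃ g ∈ G, (X.basicOpen g : Set X) := by
    ext x
    have h := congrArg (x ∈ ·) (I.coe_support_inter ⟨V, hV⟩)
    rw [hz, hs] at h
    simp only [Set.mem_inter_iff, Set.mem_compl_iff, Scheme.mem_zeroLocus_iff, SetLike.mem_coe,
      eq_iff_iff] at h
    simp only [Set.mem_inter_iff, Set.mem_iUnion, SetLike.mem_coe, exists_prop]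
    constructor
    · rintro ⟨hxV, hxU⟩
      by_contra hne
      push Not at hne
      exact (h.2 ⟨hne, hxV⟩).1 hxU
    · rintro ⟨g, hg, hx⟩
      refine ⟨X.basicOpen_le g hx, ?_⟩
      by_contra hxU
      exact (h.1 ⟨hxU, X.basicOpen_le g hx⟩).1 g hg hx
  rw [heq]
  exact G.finite_toSet.isCompact_biUnion fun g _ => (hV.basicOpen g).isCompact

variable {m : ℕ} (U : Fin m → X.Opens) (hUaff : ∀ j, IsAffineOpen (U j)) (hcov : ⨆ j, U j = ⊤)
  (I : Fin m → X.IdealSheafData) (hIft : ∀ j, CohB1.IsFT (ClSub.idealMod (I j)))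
  (hIsupp : ∀ j, ((I j).support : Set X) = (U j : Set X)ᶜ)

include hUaff hcov hIft hIsupp

theorem quasiCompact_ι (j : Fin m) : QuasiCompact (U j).ι :=
  quasiCompact_iff_forall_isAffineOpen.2 fun V hV => by
    rw [(U j).ι.isOpenEmbedding.isEmbedding.isCompact_iff]
    have h := isCompact_inter (I j) (hIft j) (hIsupp j) hV
    convert h using 1
    rw [show ((U j).ι ⁻¹ᵁ V : Set (U j : Scheme.{u})) = (U j).ι ⁻¹' (V : Set X) from rfl,
      Set.image_preimage_eq_inter_range, Scheme.Opens.range_ι]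

theorem compactSpace : CompactSpace X :=
  ⟨by
    rw [show (Set.univ : Set X) = ⋃ j, (U j : Set X) by
      rw [← Opens.coe_iSup, hcov]; rfl]
    exact isCompact_iUnion fun j => (hUaff j).isCompact⟩

theorem quasiSeparatedSpace : QuasiSeparatedSpace X := by
  refine quasiSeparatedSpace_iff_forall_affineOpens.2 fun V W => ?_
  have : (V.1 : Set X) ∩ (W.1 : Set X) =
      ⋃ j, ((V.1 : Set X) ∩ (U j : Set X)) ∩ ((W.1 : Set X) ∩ (U j : Set X)) := by
    ext x
    simp only [Set.mem_inter_iff, Set.mem_iUnion]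
    refine ⟨fun h => ?_, fun ⟨j, h⟩ => ⟨h.1.1, h.2.1⟩⟩
    obtain ⟨j, hj⟩ := Opens.mem_iSup.1 (show x ∈ ⨆ j, U j by rw [hcov]; trivial)
    exact ⟨j, ⟨h.1, hj⟩, h.2, hj⟩
  show IsCompact ((V.1 : Set X) ∩ (W.1 : Set X))
  rw [this]
  refine isCompact_iUnion fun j => ?_
  exact (hUaff j).isQuasiSeparated _ _ Set.inter_subset_right (V.1.2.inter (U j).2)
    (isCompact_inter (I j) (hIft j) (hIsupp j) V.2) Set.inter_subset_right (W.1.2.inter (U j).2)
    (isCompact_inter (I j) (hIft j) (hIsupp j) W.2)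

theorem resolutionProperty_of_quotients
    (h : ∀ j, ∃ (E : X.Modules) (π : E ⟶ ClSub.idealMod (I j)), FlatMod.IsFinLocFree E ∧ Epi π) :
    PerfAux.HasResolutionProperty X := by
  intro M hM hft
  haveI := compactSpace U hUaff hcov I hIft hIsupp
  haveI := quasiSeparatedSpace U hUaff hcov I hIft hIsupp
  haveI : M.IsQuasicoherent := hM
  have hj : ∀ j, ∃ (P : X.Modules) (φ : P ⟶ M), FlatMod.IsFinLocFree P ∧ ∀ {C : X.Modules} (c : M ⟶ C),
      φ ≫ c = 0 → (Scheme.Modules.restrictFunctor (U j).ι).map c = 0 := fun j => by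
    obtain ⟨E, π, hE, hπ⟩ := h j
    haveI := hπ
    haveI := OmegaAff.isQuasicoherent_idealMod (I j)
    haveI := Euler.isQuasicoherent_of_isFinLocFree hE
    haveI := quasiCompact_ι U hUaff hcov I hIft hIsupp j
    let q : E ⟶ Coh.structureModule X := π ≫ ClSub.idealModι (I j)
    have hq : ∀ (O : X.Opens) (z : Γ(E, O)), X.basicOpen (U := O) (q.app O z : Γ(X, O)) ≤ U j := by
      intro O z y hy
      by_contra hyU
      exact RLpsi8.not_mem_basicOpen_val (I j) (by rw [hIsupp j]; exact hyU) (π.app O z) hy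
    have htop : (I j).ideal ⟨U j, hUaff j⟩ = ⊤ := by
      rw [← Ideal.span_eq ((I j).ideal ⟨U j, hUaff j⟩), ← (hUaff j).iSup_basicOpen_eq_self_iff]
      refine le_antisymm (iSup_le fun f => X.basicOpen_le _) fun x hx => ?_
      have h1 : x ∉ X.zeroLocus (U := U j) ((I j).ideal ⟨U j, hUaff j⟩ : Set Γ(X, U j)) := fun h' =>
        ((hIsupp j).le (((I j).coe_support_inter ⟨U j, hUaff j⟩).ge ⟨h', hx⟩).1) hx
      rw [Scheme.mem_zeroLocus_iff] at h1
      push Not at h1
      obtain ⟨f, hf, hxf⟩ := h1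
      exact Opens.mem_iSup.2 ⟨⟨f, hf⟩, hxf⟩
    obtain ⟨k, hk⟩ := IdealModSec.exists_val_eq (I j) ⟨U j, hUaff j⟩
      (show (1 : Γ(X, U j)) ∈ (I j).ideal ⟨U j, hUaff j⟩ by rw [htop]; trivial)
    let T := ShortComplex.mk (kernel.ι π) π (kernel.condition π)
    have hT : T.ShortExact :=
      { exact := ShortComplex.exact_of_f_is_kernel _ (kernelIsKernel π)
        mono_f := inferInstanceAs (Mono (kernel.ι π))
        epi_g := inferInstanceAs (Epi π) }
    haveI : T.X₁.IsQuasicoherent := QCoh.isQuasicoherent_kernel π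
    obtain ⟨t, ht⟩ := QCoh.app_surjective_of_isAffineOpen hT (hUaff j) k
    have htq : q.app (U j) t = (1 : Γ(X, U j)) := (congrArg (IdealModSec.val (I j) (U j)) ht).trans hk
    haveI : IsAffine (U j : Scheme.{u}) := hUaff j
    obtain ⟨n, p, hp⟩ := RegSheaf.exists_freeMod_epi (Cohom.isCoh_restrict M ⟨hM, hft⟩ (U j).ι)
    let σ' := (DCoh.restrictFreeModIso (U j).ι n).hom ≫ p
    obtain ⟨P, φ, hP, hφ⟩ := exists_extension hE q (U j) hq (fun x hx => stI_eq_top q hx t htq)
      (OX.isFinLocFree_freeMod X n) σ'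
    refine ⟨P, φ, hP, fun {C} c hc => ?_⟩
    haveI : Epi σ' := by haveI := hp; exact epi_comp _ _
    exact (cancel_epi σ').1 ((hφ c hc).trans comp_zero.symm)
  choose P φ hP hφ using hj
  refine ⟨biproduct P, biproduct.desc φ, KSix19.ProjPush.isFinLocFree_biproduct P hP,
    Abelian.epi_of_cokernel_π_eq_zero _ ?_⟩
  let c := cokernel.π (biproduct.desc φ)
  refine IsZero.eq_of_tgt (OX.isZero_of_subsingleton_stalks _ fun x => ?_) _ _
  obtain ⟨j, hj⟩ := Opens.mem_iSup.1 (show x ∈ ⨆ j, U j by rw [hcov]; trivial)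
  have hcj : φ j ≫ c = 0 := by
    rw [← biproduct.ι_desc φ j, Category.assoc]
    simp [c]
  have h0 : (Scheme.Modules.restrictFunctor (U j).ι).map c = 0 := hφ j c hcj
  haveI : Epi ((Scheme.Modules.restrictFunctor (U j).ι).map c) := inferInstance
  have hz : IsZero ((Scheme.Modules.restrictFunctor (U j).ι).obj (cokernel (biproduct.desc φ))) := by
    rw [IsZero.iff_id_eq_zero, ← cancel_epi ((Scheme.Modules.restrictFunctor (U j).ι).map c), h0, zero_comp, comp_zero]
  exact ⟨fun a b => (stalk_eq_zero_of_isZero_restrict hz x hj a).trans (stalk_eq_zero_of_isZero_restrict hz x hj b).symm⟩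

end GrothLib.SecExt20
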