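import Groth.Agent.Lib.SecExt20.StalkI
import Groth.Agent.Lib.OX.PullbackTensor
import Groth.Agent.Lib.OX.TensorAssoc
import Groth.Agent.Lib.RegSheaf.PullTwist
import Groth.Agent.Lib.DCoh.LocFree
import Groth.Agent.Lib.KSix19.ProjPush.AmpleFam

/-! # Box products cover finite type modules on a product -/

set_option autoImplicit false
set_option backward.isDefEq.respectTransparency false
set_option linter.style.haveILetI false
set_option maxHeartbeats 1000000
universe u

open CategoryTheory CategoryTheory.Limits AlgebraicGeometry TopologicalSpace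

noncomputable section

namespace GrothLib.SecExt20

/-- Tensor product. -/
abbrev tn {Z : Scheme.{u}} (A B : Z.Modules) : Z.Modules := ((DCoh.tensorBi (X := Z)).obj A).obj B

/-- Exchanging the middle factors. -/
def interchange {Z : Scheme.{u}} (A B C D : Z.Modules) : tn (tn A B) (tn C D) ≅ tn (tn A C) (tn B D) :=
  OX.tensorAssoc A B (tn C D) ≪≫
    ((DCoh.tensorBi (X := Z)).obj A).mapIso
      ((OX.tensorAssoc B C D).symm ≪≫
        ((DCoh.tensorBi (X := Z)).mapIso ((OX.tensorBraiding.app C).app B)).app D ≪≫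
        OX.tensorAssoc C B D) ≪≫
    (OX.tensorAssoc A C (tn B D)).symm

variable {P X Y : Scheme.{u}} (p₁ : P ⟶ X) (p₂ : P ⟶ Y)

/-- The box product. -/
abbrev box (E : X.Modules) (G : Y.Modules) : P.Modules :=
  tn ((Scheme.Modules.pullback p₁).obj E) ((Scheme.Modules.pullback p₂).obj G)

/-- Being a box product of finite locally free modules. -/
def IsBox (Q : P.Modules) : Prop :=
  ∃ (E : X.Modules) (G : Y.Modules), FlatMod.IsFinLocFree E ∧ FlatMod.IsFinLocFree G ∧
    Nonempty (Q ≅ box p₁ p₂ E G)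

theorem isBox_F {E₁ : X.Modules} {G₁ : Y.Modules} (hE : FlatMod.IsFinLocFree E₁) (hG : FlatMod.IsFinLocFree G₁)
    {Q : P.Modules} (hQ : IsBox p₁ p₂ Q) : ∀ m : ℕ, IsBox p₁ p₂ ((F (box p₁ p₂ E₁ G₁) m).obj Q)
  | 0 => hQ
  | m + 1 => by
    obtain ⟨E, G, hE', hG', ⟨e⟩⟩ := isBox_F hE hG hQ m
    refine ⟨tn E₁ E, tn G₁ G, OX.isFinLocFree_tensor hE hE', OX.isFinLocFree_tensor hG hG', ⟨?_⟩⟩
    exact ((DCoh.tensorBi (X := P)).obj _).mapIso e ≪≫ interchange _ _ _ _ ≪≫
      ((DCoh.tensorBi (X := P)).mapIso (OX.pullTensorIso p₁ E₁ E).symm).app _ ≪≫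
      ((DCoh.tensorBi (X := P)).obj _).mapIso (OX.pullTensorIso p₂ G₁ G).symm

theorem isBox_freeMod (n : ℕ) : IsBox p₁ p₂ (FlatMod.freeMod P n) :=
  ⟨FlatMod.freeMod X n, Coh.structureModule Y, OX.isFinLocFree_freeMod X n,
    Euler.isFinLocFree_of_isInvertible Euler.isInvertible_structure,
    ⟨(OX.pullFreeModIso p₁ n).symm ≪≫ (Euler.tFUnitIso _).symm ≪≫
      ((DCoh.tensorBi (X := P)).obj _).mapIso (OX.pullUnitIso p₂).symm⟩⟩

theorem isFinLocFree_box {E : X.Modules} {G : Y.Modules} (hE : FlatMod.IsFinLocFree E)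
    (hG : FlatMod.IsFinLocFree G) : FlatMod.IsFinLocFree (box p₁ p₂ E G) :=
  OX.isFinLocFree_tensor (OX.isFinLocFree_pullback p₁ hE) (OX.isFinLocFree_pullback p₂ hG)

/-- The product of the pullbacks of two maps to the structure sheaves. -/
def boxQ {E : X.Modules} (a : E ⟶ Coh.structureModule X) {G : Y.Modules} (b : G ⟶ Coh.structureModule Y) :
    box p₁ p₂ E G ⟶ Coh.structureModule P :=
  (R ((Scheme.Modules.pullback p₁).map a ≫ (OX.pullUnitIso p₁).hom) 1).app ((Scheme.Modules.pullback p₂).obj G) ≫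
    (Scheme.Modules.pullback p₂).map b ≫ (OX.pullUnitIso p₂).hom

theorem stI_boxQ {E : X.Modules} (hE : FlatMod.IsFinLocFree E) (a : E ⟶ Coh.structureModule X)
    {G : Y.Modules} (hG : FlatMod.IsFinLocFree G) (b : G ⟶ Coh.structureModule Y) (z : P) :
    stI (boxQ p₁ p₂ a b) z = ⊤ ↔ stI a (p₁ z) = ⊤ ∧ stI b (p₂ z) = ⊤ := by
  rw [← stI_pullback_iff p₁ hE a z, ← stI_pullback_iff p₂ hG b z]
  let a' := (Scheme.Modules.pullback p₁).map a ≫ (OX.pullUnitIso p₁).hom
  let b' := (Scheme.Modules.pullback p₂).map b ≫ (OX.pullUnitIso p₂).hom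
  show stI _ z = ⊤ ↔ stI a' z = ⊤ ∧ stI b' z = ⊤
  rw [surjective_stalk_iff]
  have hc : (OX.stalk z).map (boxQ p₁ p₂ a b) =
      (OX.stalk z).map ((R a' 1).app ((Scheme.Modules.pullback p₂).obj G)) ≫ (OX.stalk z).map b' :=
    (OX.stalk z).map_comp _ _
  rw [hc]
  constructor
  · intro h
    refine ⟨?_, (surjective_stalk_iff b' z).2 (Function.Surjective.of_comp h)⟩
    refine (Ideal.eq_top_iff_one _).2 ?_
    obtain ⟨w, hw⟩ := h (HomSh.unitStalk z 1)
    have h1 := range_R_le a' z ((Scheme.Modules.pullback p₂).obj G) 1 w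
    rw [pow_one] at h1
    have hw' : ((OX.stalk z).map b').hom ((OX.stalk z).map ((R a' 1).app ((Scheme.Modules.pullback p₂).obj G)) w) =
        HomSh.unitStalk z 1 := hw
    generalize (OX.stalk z).map ((R a' 1).app ((Scheme.Modules.pullback p₂).obj G)) w = v at h1 hw'
    have key : (HomSh.unitStalk z).symm (((OX.stalk z).map b').hom v) ∈ stI a' z := by
      refine Submodule.smul_induction_on h1 (fun c hc' d _ => ?_) (fun c d hc' hd => ?_)
      · rw [map_smul]
        refine Eq.subst (motive := fun t => t ∈ stI a' z) ((HomSh.unitStalk z).symm.map_smul c _).symm ?_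
        exact Ideal.mul_mem_right _ _ hc'
      · rw [map_add]
        refine Eq.subst (motive := fun t => t ∈ stI a' z) ((HomSh.unitStalk z).symm.map_add _ _).symm ?_
        exact add_mem hc' hd
    rw [hw', LinearEquiv.symm_apply_apply] at key
    exact key
  · rintro ⟨ha, hb⟩
    exact ((surjective_stalk_iff b' z).1 hb).comp (surjective_R a' z ha _ 1)

theorem isAffineOpen_fst_snd {X Y S : Scheme.{u}} [IsAffine S] (f : X ⟶ S) (g : Y ⟶ S) {U : X.Opens}
    {V : Y.Opens} (hU : IsAffineOpen U) (hV : IsAffineOpen V) :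
    IsAffineOpen (pullback.fst f g ⁻¹ᵁ U ⊓ pullback.snd f g ⁻¹ᵁ V) := by
  haveI : IsAffine U.toScheme := hU
  haveI : IsAffine V.toScheme := hV
  haveI : IsAffine (pullback (U.ι ≫ f) (V.ι ≫ g)) := inferInstance
  let j : pullback (U.ι ≫ f) (V.ι ≫ g) ⟶ pullback f g :=
    pullback.map _ _ _ _ U.ι V.ι (𝟙 S) (by simp) (by simp)
  have h : j.opensRange = pullback.fst f g ⁻¹ᵁ U ⊓ pullback.snd f g ⁻¹ᵁ V := by
    apply TopologicalSpace.Opens.ext
    simp [j, Scheme.Pullback.range_map]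
  exact h ▸ isAffineOpen_opensRange j

/-- Functoriality of the box product. -/
def boxMap {E E' : X.Modules} {G G' : Y.Modules} (f : E ⟶ E') (g : G ⟶ G') : box p₁ p₂ E G ⟶ box p₁ p₂ E' G' :=
  ((DCoh.tensorBi (X := P)).map ((Scheme.Modules.pullback p₁).map f)).app _ ≫
    ((DCoh.tensorBi (X := P)).obj _).map ((Scheme.Modules.pullback p₂).map g)

theorem boxMap_comp {E E' E'' : X.Modules} {G G' G'' : Y.Modules} (f : E ⟶ E') (f' : E' ⟶ E'') (g : G ⟶ G')
    (g' : G' ⟶ G'') : boxMap p₁ p₂ f g ≫ boxMap p₁ p₂ f' g' = boxMap p₁ p₂ (f ≫ f') (g ≫ g') := by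
  simp only [boxMap, Category.assoc, Functor.map_comp, NatTrans.comp_app]
  rw [((DCoh.tensorBi (X := P)).map ((Scheme.Modules.pullback p₁).map f')).naturality_assoc]

theorem boxMap_id (E : X.Modules) (G : Y.Modules) : boxMap p₁ p₂ (𝟙 E) (𝟙 G) = 𝟙 _ := by
  simp [boxMap]

theorem boxMap_zero {E E' : X.Modules} {G G' : Y.Modules} (g : G ⟶ G') :
    boxMap p₁ p₂ (0 : E ⟶ E') g = 0 := by
  haveI : (Scheme.Modules.pullback p₁).Additive :=
    (Scheme.Modules.pullbackPushforwardAdjunction p₁).left_adjoint_additive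
  simp [boxMap]

/-- **Box products of bundles cover finite type modules on a product over an affine base.** -/
theorem exists_box_cover {X Y S : Scheme.{u}} [IsAffine S] (f : X ⟶ S) (g : Y ⟶ S)
    [CompactSpace X] [QuasiSeparatedSpace X] [CompactSpace Y] [QuasiSeparatedSpace Y]
    (hX : PerfAux.HasResolutionProperty X) (hY : PerfAux.HasResolutionProperty Y)
    (M : (pullback f g).Modules) (hM : Coh.IsQCoh M) (hft : CohB1.IsFT M) :
    ∃ (E : X.Modules) (G : Y.Modules) (φ : box (pullback.fst f g) (pullback.snd f g) E G ⟶ M),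
      FlatMod.IsFinLocFree E ∧ FlatMod.IsFinLocFree G ∧ Epi φ := by
  haveI : M.IsQuasicoherent := hM
  haveI : QuasiCompact f := HasAffineProperty.iff_of_isAffine (P := @QuasiCompact).2 inferInstance
  haveI : QuasiCompact g := HasAffineProperty.iff_of_isAffine (P := @QuasiCompact).2 inferInstance
  haveI : QuasiSeparated f := HasAffineProperty.iff_of_isAffine (P := @QuasiSeparated).2 inferInstance
  haveI : QuasiSeparated g := HasAffineProperty.iff_of_isAffine (P := @QuasiSeparated).2 inferInstance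
  haveI : CompactSpace (pullback f g : Scheme.{u}) := QuasiCompact.compactSpace_of_compactSpace (pullback.fst f g)
  haveI : QuasiSeparatedSpace (pullback f g : Scheme.{u}) :=
    quasiSeparatedSpace_of_quasiSeparated (pullback.fst f g)
  let p₁ := pullback.fst f g
  let p₂ := pullback.snd f g
  let cX := X.affineCover.finiteSubcover
  let cY := Y.affineCover.finiteSubcover
  let ι := Fin (Nat.card (cX.I₀ × cY.I₀))
  let e : ι ≃ cX.I₀ × cY.I₀ := (Finite.equivFin _).symm
  let U : ι → X.Opens := fun a => (cX.f (e a).1).opensRange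
  let V : ι → Y.Opens := fun a => (cY.f (e a).2).opensRange
  let W : ι → (pullback f g : Scheme.{u}).Opens := fun a => p₁ ⁻¹ᵁ U a ⊓ p₂ ⁻¹ᵁ V a
  have hW : ∀ a, IsAffineOpen (W a) := fun a =>
    isAffineOpen_fst_snd f g (isAffineOpen_opensRange _) (isAffineOpen_opensRange _)
  have hj : ∀ a, ∃ (E : X.Modules) (G : Y.Modules) (φ : box p₁ p₂ E G ⟶ M), FlatMod.IsFinLocFree E ∧
      FlatMod.IsFinLocFree G ∧ ∀ {C : (pullback f g : Scheme.{u}).Modules} (c : M ⟶ C),
        φ ≫ c = 0 → (Scheme.Modules.restrictFunctor (W a).ι).map c = 0 := fun a => by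
    obtain ⟨E₁, qa, hE₁, hqa⟩ := exists_boundary hX (U := U a) (isAffineOpen_opensRange _)
    obtain ⟨G₁, qb, hG₁, hqb⟩ := exists_boundary hY (U := V a) (isAffineOpen_opensRange _)
    let q := boxQ p₁ p₂ qa qb
    have hq : ∀ z, stI q z = ⊤ ↔ z ∈ W a := fun z =>
      (stI_boxQ p₁ p₂ hE₁ qa hG₁ qb z).trans (and_congr (hqa _) (hqb _))
    haveI : IsAffine (W a : Scheme.{u}) := hW a
    haveI : QuasiCompact (W a).ι := quasiCompact_iff_forall_isAffineOpen.2 fun T hT => by
      rw [(W a).ι.isOpenEmbedding.isEmbedding.isCompact_iff]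
      have h := QuasiSeparatedSpace.inter_isCompact _ _ T.2 hT.isCompact (W a).2 (hW a).isCompact
      convert h using 1
      rw [show ((W a).ι ⁻¹ᵁ T : Set (W a : Scheme.{u})) = (W a).ι ⁻¹' (T : Set _) from rfl,
        Set.image_preimage_eq_inter_range, Scheme.Opens.range_ι]
      rfl
    obtain ⟨n, p, hp⟩ := RegSheaf.exists_freeMod_epi (Cohom.isCoh_restrict M ⟨hM, hft⟩ (W a).ι)
    let σ' := (DCoh.restrictFreeModIso (W a).ι n).hom ≫ p
    obtain ⟨m, m', φ, hφ⟩ := exists_extension_F (isFinLocFree_box p₁ p₂ hE₁ hG₁) q (W a)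
      (basicOpen_le_of_stI fun z hz => (hq z).1 hz) (fun z hz => (hq z).2 hz)
      (OX.isFinLocFree_freeMod _ n) σ'
    obtain ⟨E, G, hE, hG, ⟨i⟩⟩ := isBox_F p₁ p₂ hE₁ hG₁ (isBox_F p₁ p₂ hE₁ hG₁ (isBox_freeMod p₁ p₂ n) m) m'
    refine ⟨E, G, i.inv ≫ φ, hE, hG, fun {C} c hc => ?_⟩
    haveI : Epi σ' := by haveI := hp; exact epi_comp _ _
    refine (cancel_epi σ').1 ((hφ c ?_).trans comp_zero.symm)
    rw [← cancel_epi i.inv, ← Category.assoc, hc, comp_zero]
  choose E G φ hE hG hφ using hj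
  let φ' : box p₁ p₂ (biproduct E) (biproduct G) ⟶ M :=
    ∑ a, boxMap p₁ p₂ (biproduct.π E a) (biproduct.π G a) ≫ φ a
  refine ⟨biproduct E, biproduct G, φ', KSix19.ProjPush.isFinLocFree_biproduct E hE,
    KSix19.ProjPush.isFinLocFree_biproduct G hG, Abelian.epi_of_cokernel_π_eq_zero _ ?_⟩
  let c := cokernel.π φ'
  refine IsZero.eq_of_tgt (OX.isZero_of_subsingleton_stalks _ fun z => ?_) _ _
  obtain ⟨k, hk⟩ := Opens.mem_iSup.1 (show p₁ z ∈ (⨆ k, (cX.f k).opensRange : X.Opens) by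
    rw [cX.iSup_opensRange]; trivial)
  obtain ⟨l, hl⟩ := Opens.mem_iSup.1 (show p₂ z ∈ (⨆ l, (cY.f l).opensRange : Y.Opens) by
    rw [cY.iSup_opensRange]; trivial)
  let a := e.symm (k, l)
  have hz : z ∈ W a := by
    show p₁ z ∈ U a ∧ p₂ z ∈ V a
    have he : e a = (k, l) := e.apply_symm_apply _
    simp only [U, V]
    rw [he]
    exact ⟨hk, hl⟩
  have hι : boxMap p₁ p₂ (biproduct.ι E a) (biproduct.ι G a) ≫ φ' = φ a := by
    simp only [φ', Preadditive.comp_sum, ← Category.assoc, boxMap_comp]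
    rw [Finset.sum_eq_single a]
    · rw [biproduct.ι_π_self, biproduct.ι_π_self, boxMap_id, Category.id_comp]
    · intro b _ hb
      rw [biproduct.ι_π_ne _ (Ne.symm hb), boxMap_zero, zero_comp]
    · exact fun h => absurd (Finset.mem_univ a) h
  have hca : φ a ≫ c = 0 := by
    rw [← hι, Category.assoc]
    simp [c]
  have h0 : (Scheme.Modules.restrictFunctor (W a).ι).map c = 0 := hφ a c hca
  haveI : Epi ((Scheme.Modules.restrictFunctor (W a).ι).map c) := inferInstance
  have hz0 : IsZero ((Scheme.Modules.restrictFunctor (W a).ι).obj (cokernel φ')) := by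
    rw [IsZero.iff_id_eq_zero, ← cancel_epi ((Scheme.Modules.restrictFunctor (W a).ι).map c), h0, zero_comp,
      comp_zero]
  exact ⟨fun x y => (stalk_eq_zero_of_isZero_restrict hz0 z hz x).trans
    (stalk_eq_zero_of_isZero_restrict hz0 z hz y).symm⟩

end GrothLib.SecExt20
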