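import Groth.Agent.Lib.SecExt20.StalkI
import Groth.Agent.Lib.RegSheaf.PullTwist
import Groth.Agent.Lib.DCoh.LocFree
import Groth.Agent.Lib.KSix19.ProjPush.AmpleFam

/-! # The resolution property from maps with prescribed loci -/

set_option autoImplicit false
set_option backward.isDefEq.respectTransparency false
set_option linter.style.haveILetI false
set_option maxHeartbeats 1000000
universe u

open CategoryTheory CategoryTheory.Limits AlgebraicGeometry TopologicalSpace

noncomputable section

namespace GrothLib.SecExt20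

variable {X : Scheme.{u}}

theorem resolutionProperty_of_data [CompactSpace X] [QuasiSeparatedSpace X] {ι : Type} [Fintype ι]
    (U : ι → X.Opens) (hUaff : ∀ j, IsAffineOpen (U j)) (hcov : ∀ x : X, ∃ j, x ∈ U j)
    (h : ∀ j, ∃ (E : X.Modules) (q : E ⟶ Coh.structureModule X), FlatMod.IsFinLocFree E ∧
      ∀ x, stI q x = ⊤ ↔ x ∈ U j) :
    PerfAux.HasResolutionProperty X := by
  intro M hM hft
  haveI : M.IsQuasicoherent := hM
  let e := Fintype.equivFin ι
  have hj : ∀ a : Fin (Fintype.card ι), ∃ (P : X.Modules) (φ : P ⟶ M), FlatMod.IsFinLocFree P ∧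
      ∀ {C : X.Modules} (c : M ⟶ C), φ ≫ c = 0 →
        (Scheme.Modules.restrictFunctor (U (e.symm a)).ι).map c = 0 := fun a => by
    obtain ⟨E, q, hE, hq⟩ := h (e.symm a)
    haveI : IsAffine (U (e.symm a) : Scheme.{u}) := hUaff _
    haveI : QuasiCompact (U (e.symm a)).ι := quasiCompact_iff_forall_isAffineOpen.2 fun T hT => by
      rw [(U (e.symm a)).ι.isOpenEmbedding.isEmbedding.isCompact_iff]
      have h := QuasiSeparatedSpace.inter_isCompact _ _ T.2 hT.isCompact (U (e.symm a)).2 (hUaff _).isCompact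
      convert h using 1
      rw [show ((U (e.symm a)).ι ⁻¹ᵁ T : Set (U (e.symm a) : Scheme.{u})) = (U (e.symm a)).ι ⁻¹' (T : Set _) from rfl,
        Set.image_preimage_eq_inter_range, Scheme.Opens.range_ι]
      rfl
    obtain ⟨n, p, hp⟩ := RegSheaf.exists_freeMod_epi (Cohom.isCoh_restrict M ⟨hM, hft⟩ (U (e.symm a)).ι)
    let σ' := (DCoh.restrictFreeModIso (U (e.symm a)).ι n).hom ≫ p
    obtain ⟨P, φ, hP, hφ⟩ := exists_extension hE q (U (e.symm a))
      (basicOpen_le_of_stI fun z hz => (hq z).1 hz) (fun z hz => (hq z).2 hz) (OX.isFinLocFree_freeMod X n) σ'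
    refine ⟨P, φ, hP, fun {C} c hc => ?_⟩
    haveI : Epi σ' := by haveI := hp; exact epi_comp _ _
    exact (cancel_epi σ').1 ((hφ c hc).trans comp_zero.symm)
  choose P φ hP hφ using hj
  refine ⟨biproduct P, biproduct.desc φ, KSix19.ProjPush.isFinLocFree_biproduct P hP,
    Abelian.epi_of_cokernel_π_eq_zero _ ?_⟩
  let c := cokernel.π (biproduct.desc φ)
  refine IsZero.eq_of_tgt (OX.isZero_of_subsingleton_stalks _ fun x => ?_) _ _
  obtain ⟨j, hj⟩ := hcov x
  let a := e j
  have hja : x ∈ U (e.symm a) := by simpa [a] using hj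
  have hcj : φ a ≫ c = 0 := by
    rw [← biproduct.ι_desc φ a, Category.assoc]
    simp [c]
  have h0 : (Scheme.Modules.restrictFunctor (U (e.symm a)).ι).map c = 0 := hφ a c hcj
  haveI : Epi ((Scheme.Modules.restrictFunctor (U (e.symm a)).ι).map c) := inferInstance
  have hz : IsZero ((Scheme.Modules.restrictFunctor (U (e.symm a)).ι).obj (cokernel (biproduct.desc φ))) := by
    rw [IsZero.iff_id_eq_zero, ← cancel_epi ((Scheme.Modules.restrictFunctor (U (e.symm a)).ι).map c), h0, zero_comp, comp_zero]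
  exact ⟨fun u v => (stalk_eq_zero_of_isZero_restrict hz x hja u).trans (stalk_eq_zero_of_isZero_restrict hz x hja v).symm⟩

theorem surjective_stalk_iso_comp {A A' B B' : X.Modules} (a : A' ≅ A) (f : A ⟶ B) (b : B ≅ B') (x : X) :
    Function.Surjective ((OX.stalk x).map (a.hom ≫ f ≫ b.hom)) ↔ Function.Surjective ((OX.stalk x).map f) := by
  rw [← ModuleCat.epi_iff_surjective, ← ModuleCat.epi_iff_surjective, Functor.map_comp, Functor.map_comp]
  refine ⟨fun h => ?_, fun h => ?_⟩
  · haveI := h
    have h1 : Epi ((OX.stalk x).map f ≫ (OX.stalk x).map b.hom) :=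
      epi_of_epi ((OX.stalk x).map a.hom) _
    haveI := h1
    rw [show (OX.stalk x).map f = ((OX.stalk x).map f ≫ (OX.stalk x).map b.hom) ≫ (OX.stalk x).map b.inv by
      rw [Category.assoc, ← Functor.map_comp, Iso.hom_inv_id, CategoryTheory.Functor.map_id, Category.comp_id]]
    exact epi_comp _ _
  · haveI := h
    infer_instance

/-- The locus of a map to the structure sheaf. -/
def locus {E : X.Modules} (q : E ⟶ Coh.structureModule X) : X.Opens :=
  ⨆ (p : (O : X.Opens) × Γ(E, O)), X.basicOpen (U := p.1) (q.app p.1 p.2 : Γ(X, p.1))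

theorem mem_locus {E : X.Modules} (q : E ⟶ Coh.structureModule X) (x : X) : x ∈ locus q ↔ stI q x = ⊤ := by
  constructor
  · intro h
    obtain ⟨⟨O, z⟩, hx⟩ := Opens.mem_iSup.1 h
    have hxO : x ∈ O := X.basicOpen_le _ hx
    have hu : IsUnit (X.presheaf.germ O x hxO (q.app O z : Γ(X, O))) :=
      (RingedSpace.mem_basicOpen X.toRingedSpace _ x hxO).1 hx
    refine Ideal.eq_top_of_isUnit_mem _ ?_ hu
    refine ⟨E.presheaf.germ O x hxO z, ?_⟩
    refine (QCoh.stalkLin_germ q hxO z).trans ((germ_eq_smul hxO _).trans ?_)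
    rfl
  · intro h
    obtain ⟨e, he⟩ := (surjective_stalk_iff q x).1 h (HomSh.unitStalk x 1)
    obtain ⟨O, hxO, z, rfl⟩ := TopCat.Presheaf.exists_germ_eq E.presheaf (show E.presheaf.stalk x from e)
    refine Opens.mem_iSup.2 ⟨⟨O, z⟩, (RingedSpace.mem_basicOpen X.toRingedSpace _ x hxO).2 ?_⟩
    have h1 : X.presheaf.germ O x hxO (q.app O z : Γ(X, O)) = 1 := by
      apply (HomSh.unitStalk x).injective
      refine Eq.trans ?_ he
      refine Eq.trans ?_ (QCoh.stalkLin_germ q hxO z).symm
      exact (germ_eq_smul hxO _).symm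
    show IsUnit (X.presheaf.germ O x hxO (q.app O z : Γ(X, O)))
    rw [h1]
    exact isUnit_one

theorem isCompact_locus [CompactSpace X] {E : X.Modules} (hE : FlatMod.IsFinLocFree E)
    (q : E ⟶ Coh.structureModule X) : IsCompact (locus q : Set X) := by
  classical
  haveI : E.IsQuasicoherent := Euler.isQuasicoherent_of_isFinLocFree hE
  let c := X.affineCover.finiteSubcover
  let V : c.I₀ → X.Opens := fun k => (c.f k).opensRange
  have hV : ∀ k, IsAffineOpen (V k) := fun k => isAffineOpen_opensRange _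
  have hfin : ∀ k, Module.Finite Γ(X, V k) Γ(E, V k) := fun k =>
    QCoh.moduleFinite_of_isFiniteType E (Euler.isCoh_of_isFinLocFree hE).2 (hV k)
  choose G hG using fun k => (hfin k).fg_top
  have heq : (locus q : Set X) = ⋃ k, ⋃ g ∈ G k, (X.basicOpen (U := V k) (q.app (V k) g : Γ(X, V k)) : Set X) := by
    ext x
    simp only [Set.mem_iUnion, SetLike.mem_coe, exists_prop]
    refine ⟨fun hx => ?_, fun ⟨k, g, _, hg⟩ => Opens.mem_iSup.2 ⟨⟨V k, g⟩, hg⟩⟩
    obtain ⟨k, hxk⟩ := Opens.mem_iSup.1 (show x ∈ (⨆ k, V k : X.Opens) by rw [c.iSup_opensRange]; trivial)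
    refine ⟨k, ?_⟩
    by_contra hne
    push Not at hne
    let γ := (X.presheaf.germ (V k) x hxk).hom
    have hall : ∀ v : Γ(E, V k), γ (q.app (V k) v : Γ(X, V k)) ∈ IsLocalRing.maximalIdeal (X.presheaf.stalk x) := by
      intro v
      have hv : v ∈ Submodule.span Γ(X, V k) (G k : Set Γ(E, V k)) := (hG k).symm ▸ Submodule.mem_top
      induction hv using Submodule.span_induction with
      | mem g hg =>
        exact fun hu => hne g hg ((RingedSpace.mem_basicOpen X.toRingedSpace _ x hxk).2 hu)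
      | zero =>
        rw [map_zero]
        exact (congrArg (· ∈ IsLocalRing.maximalIdeal (X.presheaf.stalk x)) (map_zero γ)).mpr (Submodule.zero_mem _)
      | add a b _ _ ha hb =>
        rw [map_add]
        exact (congrArg (· ∈ IsLocalRing.maximalIdeal (X.presheaf.stalk x)) (map_add γ _ _)).mpr (add_mem ha hb)
      | smul r a _ ha =>
        rw [Scheme.Modules.Hom.app_smul]
        exact (congrArg (· ∈ IsLocalRing.maximalIdeal (X.presheaf.stalk x)) (map_mul γ r (q.app (V k) a : Γ(X, V k)))).mpr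
          (Ideal.mul_mem_left _ _ ha)
    obtain ⟨e, he⟩ := (surjective_stalk_iff q x).1 ((mem_locus q x).1 hx) (HomSh.unitStalk x 1)
    letI := X.presheaf.algebra_section_stalk ⟨x, hxk⟩
    letI : Module Γ(X, V k) (E.presheaf.stalk x) := Module.compHom _ γ
    obtain ⟨g, hg, hgg⟩ := FlatFP.isLocalizedModule_germ E (hV k) hxk
    haveI := hg
    haveI := FlatFP.isLocalization_stalk_primeAt (hV k) hxk
    obtain ⟨⟨v, s⟩, hs⟩ := IsLocalizedModule.surj (WeakAss.primeAt x hxk).primeCompl g
      (show E.presheaf.stalk x from e)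
    have hu : IsUnit (γ s.1) := IsLocalization.map_units (X.presheaf.stalk x) s
    have h1 : γ s.1 • (show E.presheaf.stalk x from e) = E.presheaf.germ (V k) x hxk v := hs.trans (hgg v)
    have h2 : γ s.1 * 1 = γ (q.app (V k) v : Γ(X, V k)) := by
      apply (HomSh.unitStalk x).injective
      have h3 := congrArg (QCoh.stalkLin q x) h1
      rw [map_smul, QCoh.stalkLin_germ] at h3
      refine ((HomSh.unitStalk x).map_smul (γ s.1) 1).trans ?_
      refine Eq.trans ?_ (h3.trans (germ_eq_smul hxk _))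
      exact congrArg (γ s.1 • ·) he.symm
    exact hall v ((h2 ▸ (mul_one (γ s.1)).symm ▸ hu : IsUnit (γ (q.app (V k) v : Γ(X, V k)))))
  rw [heq]
  exact isCompact_iUnion fun k => (G k).finite_toSet.isCompact_biUnion fun g _ => ((hV k).basicOpen _).isCompact

end GrothLib.SecExt20
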