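import Groth.Agent.Lib.Euler.TensorSupport
import Groth.Agent.Lib.Euler.Coh
import Groth.Agent.Lib.HomSh.Criterion
import Groth.Agent.Lib.FlatFP.Sheaf
import Groth.Agent.Lib.QCoh.Killed
import Groth.Agent.Lib.OX.LocFreeTensor

/-! # Tensor powers of a map `E ⟶ O` and the modules they kill -/

set_option autoImplicit false
set_option backward.isDefEq.respectTransparency false
set_option linter.style.haveILetI false
set_option maxHeartbeats 1000000
universe u

open CategoryTheory CategoryTheory.Limits AlgebraicGeometry MonoidalCategory Opposite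
open GrothLib.QCoh (stalkLin stalkLin_germ)

noncomputable section

namespace GrothLib.SecExt20

variable {X : Scheme.{u}}

/-- The left unit, naturally. -/
def unitNat : (DCoh.tensorBi (X := X)).obj (Coh.structureModule X) ≅ 𝟭 X.Modules :=
  NatIso.ofComponents OX.tensorUnitLeftIso (fun {M N} f => by
    dsimp only [OX.tensorUnitLeftIso, Iso.trans_hom, Functor.mapIso_hom, Iso.app_hom, asIso_hom]
    have h1 := congrArg DCoh.shP.map (leftUnitor_naturality (DCoh.toP.map f))
    rw [DCoh.shP.map_comp, DCoh.shP.map_comp] at h1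
    refine (Category.assoc _ _ _).symm.trans ((congrArg (· ≫ _) h1).trans ((Category.assoc _ _ _).trans ?_))
    refine Eq.trans ?_ (Category.assoc _ _ _).symm
    exact congrArg (_ ≫ ·)
      ((PresheafOfModules.sheafificationAdjunction (R := X.ringCatSheaf) (𝟙 X.ringCatSheaf.obj)).counit.naturality f))

variable {E : X.Modules} (q : E ⟶ Coh.structureModule X)

/-- Multiplication `E ⊗ P ⟶ P` by `q`. -/
def act : (DCoh.tensorBi (X := X)).obj E ⟶ 𝟭 X.Modules :=
  (DCoh.tensorBi (X := X)).map q ≫ unitNat.hom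

/-- Iterated tensor product with `E`. -/
def F (E : X.Modules) : ℕ → X.Modules ⥤ X.Modules
  | 0 => 𝟭 _
  | m + 1 => F E m ⋙ (DCoh.tensorBi (X := X)).obj E

/-- Iterated multiplication by `q`. -/
def R : ∀ m : ℕ, F E m ⟶ 𝟭 X.Modules
  | 0 => 𝟙 _
  | m + 1 =>
    { app := fun P => (act q).app ((F E m).obj P) ≫ (R m).app P
      naturality := fun P Q f => by
        show ((DCoh.tensorBi (X := X)).obj E).map ((F E m).map f) ≫ (act q).app _ ≫ (R m).app Q = _
        rw [(act q).naturality_assoc]
        refine Eq.trans ?_ (Category.assoc _ _ _).symm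
        exact congrArg (_ ≫ ·) ((R m).naturality f) }

theorem preservesColimits_F : ∀ m : ℕ, PreservesColimitsOfSize.{u, u} (F E m)
  | 0 => inferInstanceAs (PreservesColimitsOfSize.{u, u} (𝟭 X.Modules))
  | m + 1 =>
    haveI := preservesColimits_F m
    inferInstanceAs (PreservesColimitsOfSize.{u, u} (F E m ⋙ (DCoh.tensorBi (X := X)).obj E))

theorem isFinLocFree_F (hE : FlatMod.IsFinLocFree E) {P : X.Modules} (hP : FlatMod.IsFinLocFree P) :
    ∀ m : ℕ, FlatMod.IsFinLocFree ((F E m).obj P)
  | 0 => hP
  | m + 1 => OX.isFinLocFree_tensor hE (isFinLocFree_F hE hP m)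

/-- The unit of the stalk. -/
def one₁ (x : X) : (Coh.structureModule X).presheaf.stalk x :=
  (Coh.structureModule X).presheaf.germ ⊤ x trivial (1 : Γ(X, ⊤))

theorem germ_eq_smul {V : X.Opens} {x : X} (hx : x ∈ V) (s : Γ(X, V)) :
    (Coh.structureModule X).presheaf.germ V x hx s = X.presheaf.germ V x hx s • one₁ x := by
  rw [one₁, ← TopCat.Presheaf.germ_res_apply (Coh.structureModule X).presheaf (homOfLE le_top) x hx,
    ← Mero.germ_smul]
  refine congrArg ((Coh.structureModule X).presheaf.germ V x hx) ?_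
  show s = s * X.presheaf.map (homOfLE le_top).op (1 : Γ(X, ⊤))
  exact ((congrArg (s * ·) (map_one _)).trans (mul_one s)).symm

/-- The ideal of `O_x` generated by `q`. -/
def stI (x : X) : Ideal (X.presheaf.stalk x) :=
  (LinearMap.range (stalkLin q x)).comap (HomSh.unitStalk x).toLinearMap

theorem exists_mem_stI (x : X) (e : E.presheaf.stalk x) : ∃ a ∈ stI q x, a • one₁ x = stalkLin q x e := by
  refine ⟨(HomSh.unitStalk x).symm (stalkLin q x e), ⟨e, ((HomSh.unitStalk x).apply_symm_apply _).symm⟩, ?_⟩
  exact (HomSh.unitStalk x).apply_symm_apply _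

theorem stI_eq_top {x : X} {V : X.Opens} (hx : x ∈ V) (t : Γ(E, V)) (ht : q.app V t = (1 : Γ(X, V))) :
    stI q x = ⊤ := by
  refine (Ideal.eq_top_iff_one _).2 ⟨E.presheaf.germ V x hx t, ?_⟩
  refine ((stalkLin_germ q hx t).trans (congrArg _ ht)).trans ((germ_eq_smul hx _).trans ?_)
  rw [map_one]
  rfl

/-- The unit comparison on stalks. -/
def unitStalkHom (x : X) (P : X.Modules) :
    ((OX.stalk x).obj (Coh.structureModule X) ⊗ (OX.stalk x).obj P : ModuleCat _) ⟶ (OX.stalk x).obj P :=
  (OX.stalkTensorBiIso x (Coh.structureModule X) P).inv ≫ (OX.stalk x).map (unitNat.hom.app P)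

theorem stalk_act (x : X) (P : X.Modules) :
    (OX.stalk x).map ((act q).app P) =
      (OX.stalkTensorBiIso x E P).hom ≫ ((OX.stalk x).map q ▷ (OX.stalk x).obj P) ≫ unitStalkHom x P := by
  rw [← reassoc_of% (OX.stalkTensorBiIso_natural₁ x q P), unitStalkHom, Iso.hom_inv_id_assoc, ← Functor.map_comp]
  rfl

theorem range_act_le (x : X) (P : X.Modules) (z : (OX.stalk x).obj (((DCoh.tensorBi (X := X)).obj E).obj P)) :
    (OX.stalk x).map ((act q).app P) z ∈
      stI q x • (⊤ : Submodule (X.presheaf.stalk x) ((OX.stalk x).obj P)) := by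
  rw [stalk_act]
  show (unitStalkHom x P).hom (((OX.stalk x).map q ▷ (OX.stalk x).obj P).hom
    ((OX.stalkTensorBiIso x E P).hom z)) ∈ _
  generalize (OX.stalkTensorBiIso x E P).hom z = w
  induction w using TensorProduct.induction_on with
  | zero => simp
  | add a b ha hb => rw [map_add, map_add]; exact add_mem ha hb
  | tmul e p =>
    obtain ⟨a, ha, he⟩ := exists_mem_stI q x e
    rw [ModuleCat.MonoidalCategory.whiskerRight_apply]
    have : (show (OX.stalk x).obj (Coh.structureModule X) from (OX.stalk x).map q e) ⊗ₜ[X.presheaf.stalk x] p =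
        a • ((show (OX.stalk x).obj (Coh.structureModule X) from one₁ x) ⊗ₜ[X.presheaf.stalk x] p) := by
      rw [TensorProduct.smul_tmul']
      exact congrArg (· ⊗ₜ[X.presheaf.stalk x] p) he.symm
    refine Eq.subst (motive := fun v => (unitStalkHom x P).hom v ∈ _) this.symm ?_
    rw [map_smul]
    exact Submodule.smul_mem_smul ha Submodule.mem_top

theorem range_R_le (x : X) (P : X.Modules) : ∀ (m : ℕ) (z : (OX.stalk x).obj ((F E m).obj P)),
    (OX.stalk x).map ((R q m).app P) z ∈
      stI q x ^ m • (⊤ : Submodule (X.presheaf.stalk x) ((OX.stalk x).obj P))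
  | 0, z => by
    rw [Submodule.pow_zero, Ideal.one_eq_top, Submodule.top_smul]
    exact Submodule.mem_top
  | m + 1, z => by
    show (OX.stalk x).map ((act q).app ((F E m).obj P) ≫ (R q m).app P) z ∈ _
    rw [Functor.map_comp]
    show ((OX.stalk x).map ((R q m).app P)).hom ((OX.stalk x).map ((act q).app ((F E m).obj P)) z) ∈ _
    have h := range_act_le q x ((F E m).obj P) z
    generalize (OX.stalk x).map ((act q).app ((F E m).obj P)) z = w at h
    rw [pow_succ', Submodule.mul_smul]
    refine Submodule.smul_induction_on h (fun a ha v _ => ?_) (fun a b ha hb => ?_)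
    · rw [map_smul]; exact Submodule.smul_mem_smul ha (range_R_le x P m v)
    · rw [map_add]; exact add_mem ha hb

theorem surjective_R (x : X) (hx : stI q x = ⊤) (P : X.Modules) :
    ∀ m : ℕ, Function.Surjective ((OX.stalk x).map ((R q m).app P))
  | 0 => fun v => ⟨v, by
      show (OX.stalk x).map (𝟙 P) v = v
      rw [CategoryTheory.Functor.map_id]
      rfl⟩
  | m + 1 => by
    show Function.Surjective ((OX.stalk x).map ((act q).app ((F E m).obj P) ≫ (R q m).app P))
    rw [Functor.map_comp]
    refine (surjective_R x hx P m).comp ?_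
    rw [stalk_act]
    have hq : Function.Surjective ((OX.stalk x).map q) := fun v => by
      have hv : (HomSh.unitStalk x).symm v ∈ stI q x := hx ▸ Submodule.mem_top
      obtain ⟨e, he⟩ := hv
      exact ⟨e, he.trans ((HomSh.unitStalk x).apply_symm_apply v)⟩
    have h1 : Function.Surjective (unitStalkHom x ((F E m).obj P)) :=
      ((ConcreteCategory.isIso_iff_bijective _).1
        (inferInstanceAs (IsIso ((OX.stalkTensorBiIso x (Coh.structureModule X) ((F E m).obj P)).inv ≫
          (OX.stalk x).map (unitNat.hom.app ((F E m).obj P)))))).2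
    have h2 : Function.Surjective ((OX.stalk x).map q ▷ (OX.stalk x).obj ((F E m).obj P)).hom :=
      TensorProduct.map_surjective hq Function.surjective_id
    exact h1.comp (h2.comp ((ConcreteCategory.isIso_iff_bijective
      (OX.stalkTensorBiIso x E ((F E m).obj P)).hom).1 inferInstance).2)

/-- **Modules of finite type supported off the locus are killed by a power.** -/
theorem exists_R_eq_zero [CompactSpace X] (hE : FlatMod.IsFinLocFree E) (U : X.Opens)
    (hq : ∀ (O : X.Opens) (z : Γ(E, O)), X.basicOpen (U := O) (q.app O z : Γ(X, O)) ≤ U)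
    {K : X.Modules} [K.IsQuasicoherent] (hK : CohB1.IsFT K)
    (hKU : ∀ x ∈ U, ∀ w : K.presheaf.stalk x, w = 0) : ∃ m : ℕ, (R q m).app K = 0 := by
  classical
  haveI : E.IsQuasicoherent := Euler.isQuasicoherent_of_isFinLocFree hE
  let c := X.affineCover.finiteSubcover
  let V : c.I₀ → X.Opens := fun k => (c.f k).opensRange
  have hV : ∀ k, IsAffineOpen (V k) := fun k => isAffineOpen_opensRange _
  let J : ∀ k, Submodule Γ(X, V k) Γ(Coh.structureModule X, V k) := fun k =>
    LinearMap.range (QCoh.appLinear q (V k))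
  let J' : ∀ k, Ideal Γ(X, V k) := fun k => J k
  have hJfg : ∀ k, (J' k).FG := fun k => by
    haveI := QCoh.moduleFinite_of_isFiniteType E (Euler.isCoh_of_isFinLocFree hE).2 (hV k)
    show (LinearMap.range (QCoh.appLinear q (V k))).FG
    rw [LinearMap.range_eq_map]
    exact Submodule.FG.map _ Module.Finite.fg_top
  have hpow : ∀ k, ∃ n : ℕ, J' k ^ n ≤ Module.annihilator Γ(X, V k) Γ(K, V k) := fun k => by
    haveI := QCoh.moduleFinite_of_isFiniteType K hK (hV k)
    refine Ideal.exists_pow_le_of_le_radical_of_fg (fun f hf => ?_) (hJfg k)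
    obtain ⟨e, rfl⟩ := hf
    let f : Γ(X, V k) := q.app (V k) e
    have hsep : ∀ z : Γ(K, V k), ∃ n : ℕ, f ^ n • z = 0 := fun z =>
      (QCoh.smulLift_and_smulSep_of_isAffineOpen (hV k) K f).2 z
        (QCoh.section_eq_zero_of_germ K _ fun x hx => hKU x (hq _ e hx) _)
    obtain ⟨G, hG⟩ := Module.Finite.fg_top (R := Γ(X, V k)) (M := Γ(K, V k))
    choose n hn using hsep
    refine ⟨G.sup n, Module.mem_annihilator.2 fun z => ?_⟩
    have hz : z ∈ Submodule.span Γ(X, V k) (G : Set Γ(K, V k)) := hG ▸ Submodule.mem_top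
    induction hz using Submodule.span_induction with
    | mem y hy =>
      obtain ⟨d, hd⟩ := Nat.exists_eq_add_of_le (Finset.le_sup (f := n) hy)
      show f ^ G.sup n • y = 0
      rw [hd, add_comm, pow_add, mul_smul, hn y, smul_zero]
    | zero => exact smul_zero _
    | add a b _ _ ha hb => rw [smul_add, ha, hb, add_zero]
    | smul r a _ ha => rw [smul_comm, ha, smul_zero]
  choose n hn using hpow
  refine ⟨Finset.univ.sup n, (OX.eq_zero_iff _).2 fun x => ModuleCat.hom_ext (LinearMap.ext fun z => ?_)⟩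
  obtain ⟨k, hxk⟩ := TopologicalSpace.Opens.mem_iSup.1
    (show x ∈ (⨆ k, V k : X.Opens) by rw [c.iSup_opensRange]; trivial)
  let γ := (X.presheaf.germ (V k) x hxk).hom
  have hI : stI q x ≤ (J' k).map γ := by
    intro a ha
    obtain ⟨e, he⟩ := ha
    letI := X.presheaf.algebra_section_stalk ⟨x, hxk⟩
    letI : Module Γ(X, V k) (E.presheaf.stalk x) := Module.compHom _ γ
    obtain ⟨g, hg, hgg⟩ := FlatFP.isLocalizedModule_germ E (hV k) hxk
    haveI := hg
    haveI := FlatFP.isLocalization_stalk_primeAt (hV k) hxk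
    obtain ⟨⟨v, s⟩, hs⟩ := IsLocalizedModule.surj (WeakAss.primeAt x hxk).primeCompl g e
    have hu : IsUnit (γ s.1) := IsLocalization.map_units (X.presheaf.stalk x) s
    have h1 : γ s.1 • e = E.presheaf.germ (V k) x hxk v := hs.trans (hgg v)
    have h2 : γ s.1 * a = γ (q.app (V k) v : Γ(X, V k)) := by
      apply (HomSh.unitStalk x).injective
      have h3 := congrArg (stalkLin q x) h1
      rw [map_smul, stalkLin_germ, he] at h3
      refine ((HomSh.unitStalk x).map_smul (γ s.1) a).trans (h3.trans ?_)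
      exact germ_eq_smul hxk _
    rw [← hu.unit.inv_mul_cancel_left a]
    refine Ideal.mul_mem_left _ _ ?_
    rw [IsUnit.unit_spec, h2]
    exact Ideal.mem_map_of_mem _ ⟨v, rfl⟩
  have h0 : stI q x ^ Finset.univ.sup n • (⊤ : Submodule (X.presheaf.stalk x) (K.presheaf.stalk x)) = ⊥ := by
    refine le_bot_iff.1 (le_trans (Submodule.smul_mono_left ((Ideal.pow_le_pow_right
      (Finset.le_sup (f := n) (Finset.mem_univ k))).trans ((Ideal.pow_right_mono hI _).trans
        ((Ideal.map_pow γ (J' k) (n k)).ge.trans (Ideal.map_mono (hn k)))))) ?_)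
    refine Submodule.smul_le.2 fun a ha w _ => (Submodule.mem_bot _).2 ?_
    letI := X.presheaf.algebra_section_stalk ⟨x, hxk⟩
    letI : Module Γ(X, V k) (K.presheaf.stalk x) := Module.compHom _ γ
    obtain ⟨g, hg, hgg⟩ := FlatFP.isLocalizedModule_germ K (hV k) hxk
    haveI := hg
    haveI := FlatFP.isLocalization_stalk_primeAt (hV k) hxk
    obtain ⟨⟨v, s⟩, hs⟩ := IsLocalizedModule.surj (WeakAss.primeAt x hxk).primeCompl g w
    have hu : IsUnit (γ s.1) := IsLocalization.map_units (X.presheaf.stalk x) s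
    have h1 : γ s.1 • w = K.presheaf.germ (V k) x hxk v := hs.trans (hgg v)
    induction ha using Submodule.span_induction with
    | mem b hb =>
      obtain ⟨f, hf, rfl⟩ := hb
      rw [← hu.smul_eq_zero, smul_comm, h1, ← Mero.germ_smul, Module.mem_annihilator.1 hf v, map_zero]
    | zero => exact zero_smul _ _
    | add b d _ _ hb hd => rw [add_smul, hb, hd, add_zero]
    | smul r b _ hb => rw [smul_eq_mul, mul_smul, hb, smul_zero]
  have h := range_R_le q x K (Finset.univ.sup n) z
  exact (Submodule.mem_bot _).1 (h0 ▸ h)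

end GrothLib.SecExt20
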