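import Mathlib.Algebra.Homology.ShortComplex.Abelian
import Mathlib.Algebra.Homology.Single
import Mathlib.Algebra.Homology.SingleHomology
import Mathlib.Algebra.Homology.QuasiIso
import Mathlib.CategoryTheory.Abelian.Basic

/-! # Resolutions by a class of objects covering a class closed under kernels -/

set_option autoImplicit false
set_option backward.isDefEq.respectTransparency false
set_option linter.style.haveILetI false
universe v u

open CategoryTheory CategoryTheory.Limits

noncomputable section

namespace GrothLib.SecExt20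

variable {A : Type u} [Category.{v} A] [Abelian A]

/-- Resolutions exist when every object of `C` is covered by an object in both classes. -/
theorem exists_resolution (C B : A → Prop) (hker : ∀ {X Y : A} (f : X ⟶ Y), C X → C Y → C (kernel f))
    (hcov : ∀ M, C M → ∃ (P : A) (π : P ⟶ M), C P ∧ B P ∧ Epi π) (M : A) (hM : C M) :
    ∃ (K : ChainComplex A ℕ) (π : K ⟶ (ChainComplex.single₀ A).obj M), QuasiIso π ∧ ∀ n, B (K.X n) := by
  choose cov π hC hB hπ using hcov
  let next : {N : A // C N} → {N : A // C N} := fun N =>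
    ⟨kernel (π N.1 N.2), hker _ (hC N.1 N.2) N.2⟩
  let Z : ℕ → {N : A // C N} := fun n => Nat.rec ⟨M, hM⟩ (fun _ N => next N) n
  let P : ℕ → A := fun n => cov (Z n).1 (Z n).2
  let p : ∀ n, P n ⟶ (Z n).1 := fun n => π (Z n).1 (Z n).2
  let d : ∀ n, P (n + 1) ⟶ P n := fun n => p (n + 1) ≫ kernel.ι (p n)
  have hd : ∀ n, d (n + 1) ≫ d n = 0 := fun n => by
    simp only [d, Category.assoc]
    rw [kernel.condition_assoc, zero_comp, comp_zero]
  let K := ChainComplex.of P d hd
  have hdp : ∀ n, d n ≫ p n = 0 := fun n => by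
    simp only [d, Category.assoc]
    rw [kernel.condition, comp_zero]
  have hex : ∀ n, (ShortComplex.mk (d n) (p n) (hdp n)).Exact := fun n => by
    rw [ShortComplex.exact_iff_epi_kernel_lift]
    have : kernel.lift (p n) (d n) (hdp n) = p (n + 1) := by
      rw [← cancel_mono (kernel.ι (p n)), kernel.lift_ι]
    rw [this]
    exact hπ _ _
  have hex' : ∀ n, (ShortComplex.mk (d (n + 1)) (d n) (hd n)).Exact := fun n => by
    let φ : ShortComplex.mk (d (n + 1)) (p (n + 1)) (hdp (n + 1)) ⟶ ShortComplex.mk (d (n + 1)) (d n) (hd n) :=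
      ShortComplex.homMk (𝟙 _) (𝟙 _) (kernel.ι (p n)) (by simp) (by simp [d])
    haveI : Epi φ.τ₁ := inferInstanceAs (Epi (𝟙 _))
    haveI : IsIso φ.τ₂ := inferInstanceAs (IsIso (𝟙 _))
    haveI : Mono φ.τ₃ := inferInstanceAs (Mono (kernel.ι (p n)))
    exact (ShortComplex.exact_iff_of_epi_of_isIso_of_mono φ).1 (hex (n + 1))
  have hK : ∀ n, K.d (n + 1) n = d n := fun n => by simp [K]
  let aug : K ⟶ (ChainComplex.single₀ A).obj M :=
    (ChainComplex.toSingle₀Equiv K M).symm ⟨p 0, by rw [hK]; exact hdp 0⟩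
  refine ⟨K, aug, ⟨fun n => ?_⟩, fun n => hB _ _⟩
  cases n with
  | zero =>
    rw [ChainComplex.quasiIsoAt₀_iff, ShortComplex.quasiIso_iff_of_zeros']
    · refine (ShortComplex.exact_and_epi_g_iff_of_iso ?_).2 ⟨hex 0, hπ _ _⟩
      exact ShortComplex.isoMk (Iso.refl _) (Iso.refl _) (Iso.refl _)
        (by simp [hK]) (by simp [aug])
    all_goals rfl
  | succ n =>
    rw [quasiIsoAt_iff_exactAt']
    · rw [HomologicalComplex.exactAt_iff' _ (n + 1 + 1) (n + 1) n (by simp) (by simp)]
      refine ShortComplex.exact_of_iso ?_ (hex' n)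
      exact ShortComplex.isoMk (Iso.refl _) (Iso.refl _) (Iso.refl _) (by simp [hK]) (by simp [hK])
    · apply ChainComplex.exactAt_succ_single_obj

end GrothLib.SecExt20
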