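import Groth.Agent.Lib.SecExt20.Extend
import Groth.Agent.Lib.StrictRes20.AffDiag
import Groth.Agent.Lib.QCoh.SupportPullback

/-! # The ideal of a map `E ⟶ O` at a point, and boundary maps of affine opens -/

set_option autoImplicit false
set_option backward.isDefEq.respectTransparency false
set_option linter.style.haveILetI false
set_option maxHeartbeats 1000000
universe u

open CategoryTheory CategoryTheory.Limits AlgebraicGeometry TopologicalSpace

noncomputable section

namespace GrothLib.SecExt20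

variable {X : Scheme.{u}}

theorem surjective_stalk_iff {E : X.Modules} (q : E ⟶ Coh.structureModule X) (x : X) :
    stI q x = ⊤ ↔ Function.Surjective ((OX.stalk x).map q) := by
  constructor
  · intro hx v
    have hv : (HomSh.unitStalk x).symm v ∈ stI q x := hx ▸ Submodule.mem_top
    obtain ⟨e, he⟩ := hv
    exact ⟨e, he.trans ((HomSh.unitStalk x).apply_symm_apply v)⟩
  · intro h
    refine (Ideal.eq_top_iff_one _).2 ?_
    obtain ⟨e, he⟩ := h (HomSh.unitStalk x 1)
    exact ⟨e, he⟩

theorem stI_eq_top_iff {E : X.Modules} (q : E ⟶ Coh.structureModule X) (x : X) :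
    stI q x = ⊤ ↔ x ∉ CohB1.support (cokernel q) := by
  rw [surjective_stalk_iff]
  haveI : PreservesColimitsOfSize.{u, u} (OX.stalk x) := (OX.stalkSkyAdj x).leftAdjoint_preservesColimits
  haveI : PreservesFiniteColimits (OX.stalk x) := PreservesColimitsOfSize.preservesFiniteColimits _
  show _ ↔ ¬¬ Subsingleton ((OX.stalk x).obj (cokernel q))
  rw [not_not, ← ModuleCat.epi_iff_surjective]
  haveI : (OX.stalk x).PreservesZeroMorphisms :=
    haveI := (OX.stalkSkyAdj x).isLeftAdjoint
    Functor.preservesZeroMorphisms_of_isLeftAdjoint (OX.stalk x)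
  let e := PreservesCokernel.iso (OX.stalk x) q
  rw [e.toLinearEquiv.toEquiv.subsingleton_congr]
  constructor
  · intro h
    haveI := h
    exact ModuleCat.isZero_iff_subsingleton.1 (isZero_cokernel_of_epi _)
  · intro h
    haveI := h
    exact Abelian.epi_of_cokernel_π_eq_zero _ ((ModuleCat.isZero_of_subsingleton _).eq_of_tgt _ _)

/-- Pointwise surjectivity gives the condition on sections. -/
theorem basicOpen_le_of_stI {E : X.Modules} {q : E ⟶ Coh.structureModule X} {W : X.Opens}
    (h : ∀ x, stI q x = ⊤ → x ∈ W) (O : X.Opens) (z : Γ(E, O)) :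
    X.basicOpen (U := O) (q.app O z : Γ(X, O)) ≤ W := by
  intro x hx
  have hxO : x ∈ O := X.basicOpen_le _ hx
  let c : X.presheaf.stalk x := X.presheaf.germ O x hxO (q.app O z : Γ(X, O))
  have hu : IsUnit c := (RingedSpace.mem_basicOpen X.toRingedSpace _ x hxO).1 hx
  refine h x (Ideal.eq_top_of_isUnit_mem _ ?_ hu)
  refine ⟨E.presheaf.germ O x hxO z, ?_⟩
  refine (QCoh.stalkLin_germ q hxO z).trans ((germ_eq_smul hxO _).trans ?_)
  rfl

/-- On an affine open of a scheme with the resolution property, a map whose locus is the open. -/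
theorem exists_boundary [CompactSpace X] [QuasiSeparatedSpace X] (hX : PerfAux.HasResolutionProperty X)
    {U : X.Opens} (hU : IsAffineOpen U) :
    ∃ (E : X.Modules) (q : E ⟶ Coh.structureModule X), FlatMod.IsFinLocFree E ∧ ∀ x, stI q x = ⊤ ↔ x ∈ U := by
  let I := Scheme.IdealSheafData.vanishingIdeal (X := X) ⟨(U : Set X)ᶜ, U.2.isClosed_compl⟩
  have hsupp : (I.support : Set X) = (U : Set X)ᶜ := by simp [I]
  have htop : I.ideal ⟨U, hU⟩ = ⊤ := by
    rw [← Ideal.span_eq (I.ideal ⟨U, hU⟩), ← hU.iSup_basicOpen_eq_self_iff]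
    refine le_antisymm (iSup_le fun f => X.basicOpen_le _) fun x hx => ?_
    have h1 : x ∉ X.zeroLocus (U := U) (I.ideal ⟨U, hU⟩ : Set Γ(X, U)) := fun h =>
      (hsupp.le ((I.coe_support_inter ⟨U, hU⟩).ge ⟨h, hx⟩).1) hx
    rw [Scheme.mem_zeroLocus_iff] at h1
    push Not at h1
    obtain ⟨f, hf, hxf⟩ := h1
    exact Opens.mem_iSup.2 ⟨⟨f, hf⟩, hxf⟩
  obtain ⟨k, hk⟩ := IdealModSec.exists_val_eq I ⟨U, hU⟩
    (show (1 : Γ(X, U)) ∈ I.ideal ⟨U, hU⟩ by rw [htop]; trivial)
  haveI : (ClSub.idealMod I).IsQuasicoherent := OmegaAff.isQuasicoherent_idealMod I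
  obtain ⟨Q, hQ, hkQ⟩ := RLpsi8.exists_locGen_mem (F := ClSub.idealMod I) hU {k} (Set.finite_singleton k)
  obtain ⟨E, p, hE, hp⟩ := hX Q.obj hQ.isQuasicoherent hQ.isFiniteType
  haveI := hp
  haveI : E.IsQuasicoherent := Euler.isQuasicoherent_of_isFinLocFree hE
  haveI : Q.obj.IsQuasicoherent := hQ.isQuasicoherent
  let T := ShortComplex.mk (kernel.ι p) p (kernel.condition p)
  have hT : T.ShortExact :=
    { exact := ShortComplex.exact_of_f_is_kernel _ (kernelIsKernel p)
      mono_f := inferInstanceAs (Mono (kernel.ι p))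
      epi_g := inferInstanceAs (Epi p) }
  haveI : T.X₁.IsQuasicoherent := QCoh.isQuasicoherent_kernel p
  obtain ⟨t, ht⟩ := QCoh.app_surjective_of_isAffineOpen hT hU (Q.lift k (hkQ rfl))
  let q : E ⟶ Coh.structureModule X := p ≫ Q.ι ≫ ClSub.idealModι I
  have htq : q.app U t = (1 : Γ(X, U)) := by
    show (ClSub.idealModι I).app U (Q.ι.app U (p.app U t)) = _
    rw [show p.app U t = Q.lift k (hkQ rfl) from ht, Q.ι_app_lift]
    exact hk
  refine ⟨E, q, hE, fun x => ⟨fun hx => ?_, fun hx => stI_eq_top q hx t htq⟩⟩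
  by_contra hxU
  obtain ⟨e, he⟩ := (surjective_stalk_iff q x).1 hx (HomSh.unitStalk x 1)
  obtain ⟨O, hxO, z, rfl⟩ := TopCat.Presheaf.exists_germ_eq E.presheaf (show E.presheaf.stalk x from e)
  refine RLpsi8.not_mem_basicOpen_val I (by rw [hsupp]; exact hxU) (Q.ι.app O (p.app O z)) ?_
  refine (RingedSpace.mem_basicOpen X.toRingedSpace _ x hxO).2 ?_
  have h1 : X.presheaf.germ O x hxO (q.app O z : Γ(X, O)) = 1 := by
    apply (HomSh.unitStalk x).injective
    refine Eq.trans ?_ he
    refine Eq.trans ?_ (QCoh.stalkLin_germ q hxO z).symm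
    exact (germ_eq_smul hxO _).symm
  show IsUnit (X.presheaf.germ O x hxO (q.app O z : Γ(X, O)))
  rw [h1]
  exact isUnit_one

theorem stI_pullback_iff {Y : Scheme.{u}} (f : Y ⟶ X) {E : X.Modules} (hE : FlatMod.IsFinLocFree E)
    (q : E ⟶ Coh.structureModule X) (y : Y) :
    stI ((Scheme.Modules.pullback f).map q ≫ (OX.pullUnitIso f).hom) y = ⊤ ↔ stI q (f y) = ⊤ := by
  haveI : (Scheme.Modules.pullback f).IsLeftAdjoint :=
    (Scheme.Modules.pullbackPushforwardAdjunction f).isLeftAdjoint
  haveI := Euler.isQuasicoherent_of_isFinLocFree hE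
  haveI : (Coh.structureModule X).IsQuasicoherent := Euler.isQuasicoherent_of_isFinLocFree
    (Euler.isFinLocFree_of_isInvertible Euler.isInvertible_structure)
  haveI hq := QCoh.isQuasicoherent_cokernel q
  have hC : Coh.IsCoh (cokernel q) :=
    ⟨hq, isFT_of_epi (cokernel.π q) (Euler.isCoh_of_isInvertible Euler.isInvertible_structure).2⟩
  let g := (Scheme.Modules.pullback f).map q
  let e : cokernel (g ≫ (OX.pullUnitIso f).hom) ≅ (Scheme.Modules.pullback f).obj (cokernel q) :=
    cokernelCompIsIso g _ ≪≫ (PreservesCokernel.iso (Scheme.Modules.pullback f) q).symm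
  rw [stI_eq_top_iff, stI_eq_top_iff]
  have : CohB1.support (cokernel (g ≫ (OX.pullUnitIso f).hom)) = f.base ⁻¹' CohB1.support (cokernel q) := by
    rw [← QCoh.support_pullback f _ hC]
    ext z
    exact not_congr ((OX.stalk z).mapIso e).toLinearEquiv.toEquiv.subsingleton_congr
  rw [this]
  rfl

end GrothLib.SecExt20
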